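import Groth.Prelude.Def_Neron
import Groth.Agent.FlatMisc.SteinUC
import Groth.Agent.ExistEasy.PP.HatLemmas
import Groth.Agent.PicGlue.Cover
import Groth.Agent.QCoh.Qcqs
import Mathlib.AlgebraicGeometry.Fiber
import Mathlib.AlgebraicGeometry.Morphisms.Proper
import Mathlib.RingTheory.DiscreteValuationRing.Basic
import Mathlib.RingTheory.Regular.Flat

/-! A proper morphism of flat schemes over a discrete valuation ring which is an isomorphism on the generic
fibres has direct image the structure sheaf when the special fibre of the target is reduced. -/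

set_option autoImplicit false
set_option linter.style.haveILetI false
set_option linter.unusedSectionVars false
set_option backward.isDefEq.respectTransparency false

universe u

open CategoryTheory CategoryTheory.Limits AlgebraicGeometry TopologicalSpace Opposite

namespace Groth.Agent.GenIsoRed

variable {R : Type u} [CommRing R] [IsDomain R] [IsDiscreteValuationRing R]

theorem isAway (ϖ : R) (hϖ : Irreducible ϖ) : IsLocalization.Away ϖ (FractionRing R) := by
  refine (isLocalization_iff _ _).mpr ⟨fun ⟨_, n, hn⟩ => ?_, fun z => ?_, fun {x y} hxy => ?_⟩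
  · subst hn
    show IsUnit (algebraMap R _ (ϖ ^ n))
    exact IsLocalization.map_units (FractionRing R) (⟨ϖ ^ n, mem_nonZeroDivisors_of_ne_zero (pow_ne_zero n hϖ.ne_zero)⟩ : nonZeroDivisors R)
  · obtain ⟨⟨a, s⟩, hs⟩ := IsLocalization.surj (nonZeroDivisors R) z
    obtain ⟨n, u, hu⟩ := IsDiscreteValuationRing.eq_unit_mul_pow_irreducible (nonZeroDivisors.ne_zero s.2) hϖ
    refine ⟨(a * ↑u⁻¹, ⟨ϖ ^ n, n, rfl⟩), ?_⟩
    show z * algebraMap R _ (ϖ ^ n) = algebraMap R _ (a * ↑u⁻¹)
    have hz : z * algebraMap R (FractionRing R) (s : R) = algebraMap R _ a := hs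
    rw [map_mul, ← hz, mul_assoc, ← map_mul]
    congr 2
    rw [hu, mul_comm (u : R), mul_assoc, ← Units.val_mul, mul_inv_cancel, Units.val_one, mul_one]
  · exact ⟨1, by simpa using IsFractionRing.injective R (FractionRing R) hxy⟩

variable {X Y : Over (Spec (CommRingCat.of R))}

/-- The scalar of the base. -/
noncomputable abbrev scal (X : Over (Spec (CommRingCat.of R))) (r : R) : Γ(X.left, ⊤) :=
  X.hom.appTop ((Scheme.ΓSpecIso (CommRingCat.of R)).inv r)

theorem basicOpen_scal (X : Over (Spec (CommRingCat.of R))) (r : R) :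
    X.left.basicOpen (scal X r) = X.hom ⁻¹ᵁ PrimeSpectrum.basicOpen r := by
  rw [scal, ← Scheme.preimage_basicOpen_top, basicOpen_eq_of_affine']
  simp

theorem scal_pull (π : Y ⟶ X) (r : R) : π.left.appTop (scal X r) = scal Y r := by
  show (X.hom.appTop ≫ π.left.appTop).hom _ = _
  rw [← Scheme.Hom.comp_appTop, Over.w π]

/-- The uniformiser is regular on a flat scheme. -/
theorem eq_zero_of_smul [Flat X.hom] (ϖ : R) (hϖ : Irreducible ϖ) (W : X.left.Opens) (s : Γ(X.left, W))
    (h : X.left.presheaf.map (homOfLE (le_top : W ≤ ⊤)).op (scal X ϖ) * s = 0) : s = 0 := by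
  choose U hU hxU hle using fun x : W => exists_isAffineOpen_mem_and_subset (x := x.1) (U := W) x.2
  refine X.left.sheaf.eq_of_locally_eq' U W (fun x => homOfLE (hle x))
    (fun x hx => Opens.mem_iSup.2 ⟨⟨x, hx⟩, hxU ⟨x, hx⟩⟩) _ _ fun x => ?_
  show X.left.presheaf.map (homOfLE (hle x)).op s = X.left.presheaf.map (homOfLE (hle x)).op 0
  rw [map_zero]
  let α : R →+* Γ(X.left, U x) := ((Scheme.ΓSpecIso (CommRingCat.of R)).inv ≫ X.hom.appLE ⊤ (U x) le_top).hom
  have hflat : α.Flat := by
    refine RingHom.Flat.comp (RingHom.Flat.of_bijective (f := (Scheme.ΓSpecIso (CommRingCat.of R)).inv.hom) (ConcreteCategory.bijective_of_isIso (Scheme.ΓSpecIso (CommRingCat.of R)).inv)) ?_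
    exact Flat.flat_appLE X.hom (isAffineOpen_top _) (hU x) le_top
  letI := α.toAlgebra
  haveI : Module.Flat R Γ(X.left, U x) := hflat
  have hreg : IsSMulRegular Γ(X.left, U x) ϖ :=
    Module.Flat.isSMulRegular_of_nonZeroDivisors (mem_nonZeroDivisors_of_ne_zero hϖ.ne_zero)
  refine hreg ?_
  show ϖ • X.left.presheaf.map (homOfLE (hle x)).op s = ϖ • (0 : Γ(X.left, U x))
  rw [smul_zero, Algebra.smul_def]
  have h2 := congrArg (X.left.presheaf.map (homOfLE (hle x)).op) h
  rw [map_zero, map_mul] at h2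
  refine Eq.trans ?_ h2
  congr 1
  show (X.hom.appLE ⊤ (U x) le_top) ((Scheme.ΓSpecIso (CommRingCat.of R)).inv ϖ) = _
  rw [Scheme.Hom.appLE, ← ConcreteCategory.comp_apply (X.left.presheaf.map _), ← X.left.presheaf.map_comp]
  rfl

theorem isIso_restrict (π : Y ⟶ X) (hgen : IsIso ((Neron.genericFibre R).map π)) (ϖ : R) (hϖ : Irreducible ϖ) :
    IsIso (π.left ∣_ (X.left.basicOpen (scal X ϖ))) := by
  haveI := isAway ϖ hϖ
  haveI : IsOpenImmersion (Neron.genPt R) := IsOpenImmersion.of_isLocalization ϖ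
  let fX := pullback.fst X.hom (Neron.genPt R)
  let fY := pullback.fst Y.hom (Neron.genPt R)
  let m := ((Neron.genericFibre R).map π).left
  haveI : IsIso ((Neron.genericFibre R).map π) := hgen
  haveI : IsIso m := inferInstance
  have hD : fX.opensRange = X.left.basicOpen (scal X ϖ) := by
    refine Opens.ext ?_
    rw [Scheme.Hom.coe_opensRange, IsOpenImmersion.range_pullbackFst, basicOpen_scal]
    exact congrArg (X.hom ⁻¹' ·) (PrimeSpectrum.localization_away_comap_range (FractionRing R) ϖ)
  rw [← hD]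
  have h1 : m ≫ fX = fY ≫ π.left := by simp [m, fX, fY]
  have hsq : IsPullback fY m π.left fX := by
    refine IsPullback.of_bot ?_ h1.symm (IsPullback.of_hasPullback X.hom (Neron.genPt R))
    rw [Over.w π, show m ≫ pullback.snd X.hom (Neron.genPt R) = pullback.snd Y.hom (Neron.genPt R) from
      Over.w ((Neron.genericFibre R).map π)]
    exact IsPullback.of_hasPullback Y.hom (Neron.genPt R)
  let e := fX.isoOpensRange
  have he : e.hom ≫ fX.opensRange.ι = fX := Scheme.Hom.isoOpensRange_hom_ι fX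
  have hr := (isPullback_morphismRestrict π.left fX.opensRange).flip
  let l := hr.lift fY (m ≫ e.hom) (by rw [Category.assoc, he, h1])
  have hleft : IsPullback l m (π.left ∣_ fX.opensRange) e.hom := by
    refine IsPullback.of_right ?_ (hr.lift_snd _ _ _) hr
    rw [hr.lift_fst, he]
    exact hsq
  haveI : IsIso l := hleft.isIso_fst_of_isIso
  have h2 : π.left ∣_ fX.opensRange = inv l ≫ m ≫ e.hom := by
    rw [IsIso.eq_inv_comp]; exact hleft.w
  rw [h2]
  infer_instance

theorem surjective_left [Flat X.hom] (π : Y ⟶ X) [IsProper π.left] (ϖ : R) (hϖ : Irreducible ϖ)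
    (hD : IsIso (π.left ∣_ (X.left.basicOpen (scal X ϖ)))) : Function.Surjective π.left := by
  intro x
  let D := X.left.basicOpen (scal X ϖ)
  have hcl : IsClosed (Set.range π.left) := π.left.isClosedMap.isClosed_range
  have hDr : ∀ y ∈ D, y ∈ Set.range π.left := fun y hy => by
    obtain ⟨z, hz⟩ := (π.left ∣_ D).surjective ⟨y, hy⟩
    refine ⟨z.1, ?_⟩
    have : (π.left ∣_ D) ≫ D.ι = (π.left ⁻¹ᵁ D).ι ≫ π.left := morphismRestrict_ι _ _
    have h2 := congrArg (fun t : (π.left ⁻¹ᵁ D).toScheme ⟶ X.left => t z) this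
    simp only [Scheme.Hom.comp_apply, hz] at h2
    exact h2.symm
  obtain ⟨z, hz, hzη⟩ := Flat.generalizingMap X.hom
    ((genericPoint_spec (Spec (CommRingCat.of R))).specializes (Set.mem_univ (X.hom x)))
  have hzD : z ∈ D := by
    show z ∈ X.left.basicOpen (scal X ϖ)
    rw [basicOpen_scal]
    show X.hom z ∈ PrimeSpectrum.basicOpen ϖ
    rw [hzη]
    refine (genericPoint_spec (Spec (CommRingCat.of R))).mem_open_set_iff (PrimeSpectrum.basicOpen ϖ).isOpen |>.2 ?_
    exact ⟨⟨⊥, Ideal.isPrime_bot⟩, Set.mem_univ _, fun h => hϖ.ne_zero (by simpa using h)⟩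
  exact hz.mem_closed hcl (hDr z hzD)

theorem isReduced_special [IsReduced (X.hom.fiber (IsLocalRing.closedPoint R))]
    (ϖ : R) (hϖ : Irreducible ϖ) (V : X.left.Opens) (hV : IsAffineOpen V) (a : Γ(X.left, V))
    (ha : ∀ x ∈ V, x ∉ X.left.basicOpen (scal X ϖ) → x ∉ X.left.basicOpen a) :
    ∃ c : Γ(X.left, V), X.left.presheaf.map (homOfLE (le_top : V ≤ ⊤)).op (scal X ϖ) * c = a := by
  let k := IsLocalRing.ResidueField R
  let i : Spec (CommRingCat.of k) ⟶ Spec (CommRingCat.of R) := Spec.map (CommRingCat.ofHom (IsLocalRing.residue R))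
  let φ : CommRingCat.of R ⟶ Γ(X.left, V) := (Scheme.ΓSpecIso (CommRingCat.of R)).inv ≫ X.hom.appLE ⊤ V le_top
  have hfac : hV.fromSpec ≫ X.hom = Spec.map φ := by
    have h := IsAffineOpen.SpecMap_appLE_fromSpec X.hom (isAffineOpen_top _) hV (le_top : V ≤ X.hom ⁻¹ᵁ ⊤)
    rw [IsAffineOpen.fromSpec_top, Scheme.isoSpec_Spec_inv] at h
    rw [← h, Spec.map_comp]
  have hs : i (IsLocalRing.closedPoint k) = IsLocalRing.closedPoint R := by
    apply PrimeSpectrum.ext
    show (IsLocalRing.maximalIdeal k).comap (IsLocalRing.residue R) = IsLocalRing.maximalIdeal R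
    rw [(IsLocalRing.isField_iff_maximalIdeal_eq).1 (Field.toIsField k), ← RingHom.ker_eq_comap_bot,
      IsLocalRing.ker_residue]
  let S := Spec (CommRingCat.of R)
  let ψ := Scheme.descResidueField (Scheme.stalkClosedPointTo i)
  have hψ : Spec.map ψ ≫ S.fromSpecResidueField (i (IsLocalRing.closedPoint k)) = i :=
    Scheme.descResidueField_stalkClosedPointTo_fromSpecResidueField k S i
  haveI hred : IsReduced (X.hom.fiber (i (IsLocalRing.closedPoint k))) := by rw [hs]; infer_instance
  haveI : IsIso ψ := by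
    refine (ConcreteCategory.isIso_iff_bijective _).2 ⟨ψ.hom.injective, fun y => ?_⟩
    obtain ⟨r, rfl⟩ := IsLocalRing.residue_surjective y
    have h := congrArg Scheme.Hom.appTop hψ
    rw [Scheme.Hom.comp_appTop] at h
    have h2 := congr($h ((Scheme.ΓSpecIso (CommRingCat.of R)).inv r))
    rw [ConcreteCategory.comp_apply] at h2
    refine ⟨(Scheme.ΓSpecIso _).hom ((S.fromSpecResidueField (i (IsLocalRing.closedPoint k))).appTop
      ((Scheme.ΓSpecIso (CommRingCat.of R)).inv r)), ?_⟩
    have h3 := congr((Scheme.ΓSpecIso (CommRingCat.of k)).hom $h2)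
    rw [← ConcreteCategory.comp_apply, Scheme.ΓSpecIso_naturality, ConcreteCategory.comp_apply] at h3
    refine h3.trans ?_
    rw [← ConcreteCategory.comp_apply, Scheme.ΓSpecIso_naturality, ← ConcreteCategory.comp_apply,
      Iso.inv_hom_id_assoc]
    rfl
  haveI : IsIso (Spec.map ψ) := inferInstance
  haveI : IsReduced (pullback X.hom i) := by
    haveI : IsReduced (pullback X.hom (S.fromSpecResidueField (i (IsLocalRing.closedPoint k)))) := hred
    haveI : IsReduced (pullback (pullback.snd X.hom (S.fromSpecResidueField (i (IsLocalRing.closedPoint k)))) (Spec.map ψ)) :=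
      isReduced_of_isOpenImmersion (pullback.fst _ _)
    let e := pullbackLeftPullbackSndIso X.hom (S.fromSpecResidueField (i (IsLocalRing.closedPoint k))) (Spec.map ψ)
    have : IsReduced (pullback X.hom (Spec.map ψ ≫ S.fromSpecResidueField (i (IsLocalRing.closedPoint k)))) :=
      isReduced_of_isOpenImmersion e.inv
    rwa [hψ] at this
  haveI : IsReduced (pullback (Spec.map φ) i) := by
    rw [← hfac]
    haveI : IsReduced (pullback hV.fromSpec (pullback.fst X.hom i)) := isReduced_of_isOpenImmersion (pullback.snd _ _)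
    exact isReduced_of_isOpenImmersion (pullbackRightPullbackFstIso X.hom i hV.fromSpec).inv
  letI := φ.hom.toAlgebra
  haveI : IsReduced (pullback (Spec.map (CommRingCat.ofHom (algebraMap R Γ(X.left, V))))
      (Spec.map (CommRingCat.ofHom (algebraMap R k)))) := ‹IsReduced (pullback (Spec.map φ) i)›
  haveI hT : IsReduced (Spec (CommRingCat.of (TensorProduct R Γ(X.left, V) k))) :=
    isReduced_of_isOpenImmersion (pullbackSpecIso R Γ(X.left, V) k).inv
  haveI : _root_.IsReduced (TensorProduct R Γ(X.left, V) k) :=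
    (affine_isReduced_iff (CommRingCat.of (TensorProduct R Γ(X.left, V) k))).1 hT
  have hrad : ((IsLocalRing.maximalIdeal R).map φ.hom).IsRadical := by
    rw [Ideal.isRadical_iff_quotient_reduced]
    haveI : _root_.IsReduced (TensorProduct R Γ(X.left, V) (R ⧸ IsLocalRing.maximalIdeal R)) :=
      ‹_root_.IsReduced (TensorProduct R Γ(X.left, V) k)›
    exact isReduced_of_injective (Algebra.TensorProduct.quotIdealMapEquivTensorQuot Γ(X.left, V) (IsLocalRing.maximalIdeal R))
      (AlgEquiv.injective _)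
  rw [Irreducible.maximalIdeal_eq hϖ, Ideal.map_span, Set.image_singleton] at hrad
  have hφ : φ.hom ϖ = X.left.presheaf.map (homOfLE (le_top : V ≤ ⊤)).op (scal X ϖ) := rfl
  have hmem : a ∈ (Ideal.span {φ.hom ϖ}).radical := by
    rw [Ideal.radical_eq_sInf, Ideal.mem_sInf]
    rintro P ⟨hP, hPp⟩
    by_contra haP
    let x : Spec Γ(X.left, V) := ⟨P, hPp⟩
    have hx : x ∈ hV.fromSpec ⁻¹ᵁ X.left.basicOpen a := by rw [hV.fromSpec_preimage_basicOpen]; exact haP
    refine ha (hV.fromSpec x) (hV.range_fromSpec ▸ ⟨x, rfl⟩ : _ ∈ (V : Set X.left)) (fun hx' => ?_) hx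
    have h4 : x ∈ hV.fromSpec ⁻¹ᵁ X.left.basicOpen (X.left.presheaf.map (homOfLE (le_top : V ≤ ⊤)).op (scal X ϖ)) := by
      show hV.fromSpec x ∈ X.left.basicOpen _
      rw [Scheme.basicOpen_res]
      exact ⟨(hV.range_fromSpec ▸ ⟨x, rfl⟩ : _ ∈ (V : Set X.left)), hx'⟩
    rw [hV.fromSpec_preimage_basicOpen] at h4
    exact h4 (hP (Ideal.mem_span_singleton_self _))
  obtain ⟨c, hc⟩ := Ideal.mem_span_singleton'.1 (hrad hmem)
  exact ⟨c, by rw [← hφ, mul_comm]; exact hc⟩

theorem isIso_app [Flat X.hom] [Flat Y.hom] (π : Y ⟶ X) [IsProper π.left]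
    (hgen : IsIso ((Neron.genericFibre R).map π))
    [IsReduced (X.hom.fiber (IsLocalRing.closedPoint R))] (W : X.left.Opens) : IsIso (π.left.app W) := by
  obtain ⟨ϖ, hϖ⟩ := IsDiscreteValuationRing.exists_irreducible R
  let D := X.left.basicOpen (scal X ϖ)
  haveI hD : IsIso (π.left ∣_ D) := isIso_restrict π hgen ϖ hϖ
  have hsurj := surjective_left π ϖ hϖ hD
  refine (ConcreteCategory.isIso_iff_bijective _).2
    (FlatMisc.bijective_app_of_isBasis π.left X.left.isBasis_affineOpens (fun V hV => ?_) W)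
  replace hV : IsAffineOpen V := hV
  let t : Γ(X.left, V) := X.left.presheaf.map (homOfLE (le_top : V ≤ ⊤)).op (scal X ϖ)
  let t' : Γ(Y.left, π.left ⁻¹ᵁ V) := Y.left.presheaf.map (homOfLE (le_top : π.left ⁻¹ᵁ V ≤ ⊤)).op (scal Y ϖ)
  have ht : π.left.app V t = t' := by
    show (X.left.presheaf.map _ ≫ π.left.app V) _ = _
    rw [Scheme.Hom.naturality, ConcreteCategory.comp_apply]
    exact congrArg _ (scal_pull π ϖ)
  have hreg : ∀ (n : ℕ) (s : Γ(Y.left, π.left ⁻¹ᵁ V)), t' ^ n * s = 0 → s = 0 := by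
    intro n
    induction n with
    | zero => intro s h; simpa using h
    | succ n ih => intro s h; exact eq_zero_of_smul ϖ hϖ _ s (ih _ (by rw [← mul_assoc, ← pow_succ]; exact h))
  have hregX : ∀ (n : ℕ) (s : Γ(X.left, V)), t ^ n * s = 0 → s = 0 := by
    intro n
    induction n with
    | zero => intro s h; simpa using h
    | succ n ih => intro s h; exact eq_zero_of_smul ϖ hϖ _ s (ih _ (by rw [← mul_assoc, ← pow_succ]; exact h))
  have hbD : X.left.basicOpen t = V ⊓ D := Scheme.basicOpen_res _ _ _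
  haveI : IsIso (π.left ∣_ X.left.basicOpen t) := by
    have h : X.left.basicOpen t ≤ D := hbD.le.trans inf_le_right
    exact PicGlue.isIso_restrict_of_le π.left h
  have hbij := ExistEasy.bijective_app_of_isIso_restrict π.left (D := X.left.basicOpen t)
  haveI hloc := hV.isLocalization_basicOpen t
  let resX : Γ(X.left, V) →+* Γ(X.left, X.left.basicOpen t) := (X.left.presheaf.map (homOfLE (X.left.basicOpen_le t)).op).hom
  let resY : Γ(Y.left, π.left ⁻¹ᵁ V) →+* Γ(Y.left, π.left ⁻¹ᵁ X.left.basicOpen t) :=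
    (Y.left.presheaf.map (homOfLE (π.left.preimage_mono (X.left.basicOpen_le t))).op).hom
  have hnat : ∀ a, π.left.app _ (resX a) = resY (π.left.app V a) := fun a =>
    congr($(π.left.naturality (homOfLE (X.left.basicOpen_le t)).op) a)
  have hzero : ∀ b, resY b = 0 → b = 0 := by
    intro b hb
    have hb' : Y.left.presheaf.map (homOfLE (Y.left.basicOpen_le t')).op b = 0 := by
      have e : Y.left.basicOpen t' = π.left ⁻¹ᵁ X.left.basicOpen t := by
        rw [Scheme.preimage_basicOpen, ht]
      have h := congrArg (Y.left.presheaf.map (eqToHom e).op) hb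
      rw [map_zero] at h
      refine Eq.trans ?_ h
      show _ = (Y.left.presheaf.map _ ≫ Y.left.presheaf.map _) b
      rw [← Y.left.presheaf.map_comp]
      rfl
    obtain ⟨n, hn⟩ := exists_pow_mul_eq_zero_of_res_basicOpen_eq_zero_of_isCompact Y.left
      (QuasiCompact.isCompact_preimage (f := π.left) _ V.isOpen hV.isCompact) b t' hb'
    exact hreg n b hn
  refine ⟨(injective_iff_map_eq_zero _).2 fun a ha => ?_, fun b => ?_⟩
  · obtain ⟨⟨_, n, rfl⟩, hn⟩ := (IsLocalization.map_eq_zero_iff (Submonoid.powers t) Γ(X.left, X.left.basicOpen t) a).1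
      (hbij.1 (by rw [map_zero]; exact (hnat a).trans (by rw [ha, map_zero])))
    exact hregX n a hn
  · obtain ⟨q, hq⟩ := hbij.2 (resY b)
    obtain ⟨⟨a, ⟨_, n, rfl⟩⟩, hqa⟩ := IsLocalization.surj (Submonoid.powers t) q
    have h1 : π.left.app V a = t' ^ n * b := by
      refine sub_eq_zero.1 (hzero _ ?_)
      have hqa' : q * resX (t ^ n) = resX a := hqa
      have := congrArg (π.left.app (X.left.basicOpen t)) hqa'
      rw [map_mul, hq, hnat, hnat, map_pow, ht, ← map_mul] at this
      rw [map_sub, sub_eq_zero, ← this, mul_comm]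
    clear hqa hq
    induction n generalizing a b with
    | zero => exact ⟨a, by rw [h1, pow_zero, one_mul]⟩
    | succ n ih =>
      have hvan : ∀ x ∈ V, x ∉ X.left.basicOpen (scal X ϖ) → x ∉ X.left.basicOpen a := by
        intro x hxV hxD hxa
        obtain ⟨y, rfl⟩ := hsurj x
        have hy : y ∈ π.left ⁻¹ᵁ X.left.basicOpen a := hxa
        rw [Scheme.preimage_basicOpen, h1, pow_succ, mul_comm _ t', mul_assoc, Scheme.basicOpen_mul] at hy
        have hy' := hy.1
        rw [← ht, ← Scheme.preimage_basicOpen] at hy'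
        exact hxD (hbD.le hy').2
      obtain ⟨c, hc⟩ := isReduced_special ϖ hϖ V hV a hvan
      refine ih b c (hreg 1 _ ?_ |> sub_eq_zero.1)
      have e : π.left.app V (t * c) = t' ^ (n + 1) * b := (congrArg (π.left.app V) hc).trans h1
      rw [map_mul, ht] at e
      rw [pow_one, mul_sub, e, pow_succ]; ring

end Groth.Agent.GenIsoRed
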